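import Groth.Agent.FlatFunLimLib.Main
import Groth.Agent.RankLocusLib.Mod
import Groth.Agent.FittLib.Generated
import Groth.Agent.FittLib.Comap

/-!
# A finitely presented module locally free on the limit is locally free at a stage
-/

set_option autoImplicit false
set_option backward.isDefEq.respectTransparency false
set_option linter.all false

universe u

open CategoryTheory CategoryTheory.Limits AlgebraicGeometry TopologicalSpace Opposite

noncomputable section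

namespace LimLocFreeLib

open RichLib.LimBC RichLib.LimTop RichLib.LimStalk RankLocusLib

variable {S : Scheme.{u}} (P : ℕ → Prop) (F : S.Modules)

/-- `F` is locally free of some rank satisfying `P` along `h`. -/
def Good {T : Scheme.{u}} (h : T ⟶ S) : Prop :=
  ∀ t : T, ∃ (U : T.Opens) (r : ℕ), P r ∧ t ∈ U ∧ FreeAlong r F (U.ι ≫ h)

theorem Good.comp {T T' : Scheme.{u}} {h : T ⟶ S} (hh : Good P F h) (g : T' ⟶ T) {h' : T' ⟶ S}
    (e : g ≫ h = h') : Good P F h' := fun t => by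
  subst e
  obtain ⟨U, r, hr, hU, hf⟩ := hh (g t)
  refine ⟨g ⁻¹ᵁ U, r, hr, hU, ?_⟩
  rw [← morphismRestrict_ι_assoc]
  exact freeAlong_comp hf _

theorem isFinLocFree_iff {T : Scheme.{u}} (h : T ⟶ S) :
    FlatMod.IsFinLocFree ((Scheme.Modules.pullback h).obj F) ↔ Good (fun _ => True) F h :=
  forall_congr' fun t => exists_congr fun U => exists_congr fun r => by
    rw [← freeAlong_restrict_iff, freeAlong_pullback_iff]
    simp

theorem isFinLocFreeOfRank_iff {T : Scheme.{u}} (n : ℕ) (h : T ⟶ S) :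
    FlatMod.IsFinLocFreeOfRank n ((Scheme.Modules.pullback h).obj F) ↔ Good (fun r => r = n) F h :=
  forall_congr' fun t => exists_congr fun U => by
    rw [← freeAlong_restrict_iff, freeAlong_pullback_iff]
    simp only [exists_eq_left]

variable [Coh.IsQCoh F]

/-- If the Fitting ideals over an affine open become trivial on an open of `T`, `F` is free near each point. -/
theorem exists_free_of_ideals (hft : CohB1.IsFT F) {U : S.Opens} (hU : IsAffineOpen U) (r : ℕ)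
    {T : Scheme.{u}} (h : T ⟶ S) (W : T.Opens) (hWU : W ≤ h ⁻¹ᵁ U)
    (h0 : ∀ k, k < r → ∀ g ∈ Fitt.ideal Γ(S, U) Γ(F, U) k, h.appLE U W hWU g = 0)
    (h1 : Fitt.ideal Γ(S, U) Γ(F, U) r = ⊤) (t : T) (ht : t ∈ W) :
    ∃ V : T.Opens, t ∈ V ∧ FreeAlong r F (V.ι ≫ h) := by
  haveI : Coh.IsQCoh ((Scheme.Modules.pullback (W.ι ≫ h)).obj F) := KFlatLib.isQCoh_pullback (W.ι ≫ h) F
  have hft' : CohB1.IsFT ((Scheme.Modules.pullback (W.ι ≫ h)).obj F) := ConsLib.isFT_pullback (W.ι ≫ h) F hft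
  have hle : ∀ W' : (W : Scheme.{u}).Opens, W' ≤ (W.ι ≫ h) ⁻¹ᵁ U := fun W' y _ => hWU y.2
  have hlf : FlatMod.IsFinLocFreeOfRank r ((Scheme.Modules.pullback (W.ι ≫ h)).obj F) := by
    refine (FittLib.isFinLocFreeOfRank_iff _ hft' r).2 ⟨fun k hk => ?_, fun k hk => ?_⟩
    · refine (FittLib.sheafIdeal_eq_bot_iff _ hft' k).2 fun W' => ?_
      rw [(FittLib.finite_and_ideal_pullback (W.ι ≫ h) F hft hU W'.2 (hle W'.1) k).2, eq_bot_iff,
        Ideal.map_le_iff_le_comap]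
      intro g hg
      rw [Ideal.mem_comap, Ideal.mem_bot]
      rw [← Scheme.Hom.appLE_comp_appLE W.ι h U W W'.1 hWU (fun y _ => y.2)]
      show (W.ι.appLE W W'.1 _).hom ((h.appLE U W hWU).hom g) = 0
      rw [show (h.appLE U W hWU).hom g = 0 from h0 k hk g hg, map_zero]
    · refine (FittLib.sheafIdeal_eq_top_iff _ hft' k).2 fun W' => ?_
      haveI := QCohLib.finite_of_isFT hft hU
      rw [(FittLib.finite_and_ideal_pullback (W.ι ≫ h) F hft hU W'.2 (hle W'.1) k).2,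
        eq_top_iff.2 (h1.ge.trans (FittLib.ideal_monotone hk)), Ideal.map_top]
  obtain ⟨O, hO, hf⟩ := (isFinLocFreeOfRank_pullback_iff F (W.ι ≫ h)).1 hlf ⟨t, ht⟩
  refine ⟨W.ι ''ᵁ O, ⟨⟨t, ht⟩, hO, rfl⟩, ?_⟩
  have hr : Set.range (W.ι ''ᵁ O).ι ⊆ Set.range (O.ι ≫ W.ι) := by
    rintro _ ⟨⟨_, y, hy, rfl⟩, rfl⟩
    exact ⟨⟨y, hy⟩, rfl⟩
  rw [← IsOpenImmersion.lift_fac (O.ι ≫ W.ι) (W.ι ''ᵁ O).ι hr, Category.assoc, Category.assoc]
  exact freeAlong_comp hf _

variable {I : Type u} [SmallCategory I] [IsCofiltered I] (D : I ⥤ Scheme.{u}) (c : Cone D) (hc : IsLimit c)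
  [∀ (i j : I) (f : i ⟶ j), IsAffineHom (D.map f)]

include hc in
/-- Local freeness near a point of the limit is local freeness near its image in a stage. -/
theorem exists_stage_free (i₀ : I) (F : (D.obj i₀).Modules) [Coh.IsQCoh F] (hF : CohB1.IsFP F) (r : ℕ)
    (x : c.pt) (O : c.pt.Opens) (hx : x ∈ O) (hfree : FreeAlong r F (O.ι ≫ c.π.app i₀)) :
    ∃ (j : I) (φ : j ⟶ i₀) (V : (D.obj j).Opens), c.π.app j x ∈ V ∧ FreeAlong r F (V.ι ≫ D.map φ) := by
  classical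
  have hft := FlatFunLimLib.isFT_of_isFP' hF
  set s := c.π.app i₀ with hs
  obtain ⟨U₁, hU₁, hxU₁, -⟩ := exists_isAffineOpen_mem_and_subset (X := D.obj i₀) (x := s x) (U := ⊤) trivial
  obtain ⟨Wt, hWt, hxWt, hle⟩ := exists_isAffineOpen_mem_and_subset (X := c.pt) (x := x) (U := s ⁻¹ᵁ U₁ ⊓ O)
    ⟨hxU₁, hx⟩
  have hWU : Wt ≤ s ⁻¹ᵁ U₁ := fun y hy => (hle hy).1
  obtain ⟨b⟩ : Nonempty (Module.Basis (Fin r) Γ(c.pt, Wt) Γ((Scheme.Modules.pullback s).obj F, Wt)) := by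
    obtain ⟨e⟩ := (freeAlong_restrict_iff ((Scheme.Modules.pullback s).obj F) O).1
      ((freeAlong_pullback_iff s O.ι).2 hfree)
    exact FittLib.nonempty_basis_of_iso _ e (fun y hy => (hle hy).2)
  have hideal : ∀ k, (Fitt.ideal Γ(D.obj i₀, U₁) Γ(F, U₁) k).map (s.appLE U₁ Wt hWU).hom =
      if r ≤ k then ⊤ else ⊥ := fun k => by
    refine ((FittLib.finite_and_ideal_pullback s F hft hU₁ hWt hWU k).2).symm.trans ?_
    refine (FittLib.ideal_of_basis b k).trans ?_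
    simp only [Fintype.card_fin]
  have hgerm : ∀ g, c.pt.presheaf.germ Wt x hxWt (s.appLE U₁ Wt hWU g) =
      s.stalkMap x ((D.obj i₀).presheaf.germ U₁ (s x) hxU₁ g) := fun g => germ_appLE s hWU hxWt g
  obtain ⟨g₁, hg₁, hu⟩ : ∃ g ∈ Fitt.ideal Γ(D.obj i₀, U₁) Γ(F, U₁) r,
      IsUnit ((D.obj i₀).presheaf.germ U₁ (s x) hxU₁ g) := by
    by_contra hcon
    push_neg at hcon
    have hh : (⊤ : Ideal Γ(c.pt, Wt)) ≤
        (IsLocalRing.maximalIdeal (c.pt.presheaf.stalk x)).comap (c.pt.presheaf.germ Wt x hxWt).hom := by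
      refine (((hideal r).trans (if_pos le_rfl)).ge).trans (Ideal.map_le_iff_le_comap.2 fun g hg => ?_)
      show c.pt.presheaf.germ Wt x hxWt (s.appLE U₁ Wt hWU g) ∈ IsLocalRing.maximalIdeal _
      rw [hgerm, IsLocalRing.mem_maximalIdeal, mem_nonunits_iff]
      exact fun hu => hcon g hg (isUnit_of_map_unit (s.stalkMap x).hom _ hu)
    have h1 : c.pt.presheaf.germ Wt x hxWt 1 ∈ IsLocalRing.maximalIdeal _ := hh (Submodule.mem_top (x := 1))
    rw [map_one] at h1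
    exact h1 isUnit_one
  set U := (D.obj i₀).basicOpen g₁ with hUdef
  have hU : IsAffineOpen U := hU₁.basicOpen g₁
  have hxU : s x ∈ U := ((D.obj i₀).mem_basicOpen g₁ (s x) hxU₁).2 hu
  haveI := QCohLib.finite_of_isFT hft hU₁
  have htop : Fitt.ideal Γ(D.obj i₀, U) Γ(F, U) r = ⊤ := by
    rw [FittLib.ideal_basicOpen F hft hU₁ g₁ r]
    exact Ideal.eq_top_of_isUnit_mem _ (Ideal.mem_map_of_mem _ hg₁)
      ((D.obj i₀).toRingedSpace.isUnit_res_basicOpen g₁)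
  haveI := FittLib.finitePresentation_affine F hF hU₁
  choose G hG using fun k : Fin r => FittLib.ideal_fg (R := Γ(D.obj i₀, U₁)) (M := Γ(F, U₁)) k.1
  let gs : Finset Γ(D.obj i₀, U₁) := Finset.univ.biUnion G
  have hz : ∀ g ∈ gs, s.stalkMap x ((D.obj i₀).presheaf.germ U₁ (s x) hxU₁ g) = 0 := fun g hg => by
    obtain ⟨k, -, hk⟩ := Finset.mem_biUnion.1 hg
    have hmem : g ∈ Fitt.ideal Γ(D.obj i₀, U₁) Γ(F, U₁) k.1 := hG k ▸ Ideal.subset_span hk
    have h0 : s.appLE U₁ Wt hWU g = 0 := by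
      have h := Ideal.mem_map_of_mem (s.appLE U₁ Wt hWU).hom hmem
      rw [hideal, if_neg (by omega), Ideal.mem_bot] at h
      exact h
    rw [← hgerm, h0, map_zero]
  have key : ∀ l : Finset Γ(D.obj i₀, U₁), (∀ g ∈ l, s.stalkMap x ((D.obj i₀).presheaf.germ U₁ (s x) hxU₁ g) = 0) →
      ∃ (j : I) (φ : j ⟶ i₀), ∀ g ∈ l, trans D c φ x ((D.obj i₀).presheaf.germ U₁ (s x) hxU₁ g) = 0 := by
    intro l
    induction l using Finset.induction with
    | empty => exact fun _ => ⟨i₀, 𝟙 _, fun g hg => absurd hg (Finset.notMem_empty g)⟩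
    | insert a l _ ih =>
      intro hl
      obtain ⟨j, φ, hj⟩ := ih fun g hg => hl g (Finset.mem_insert_of_mem hg)
      obtain ⟨j', ψ, hj'⟩ := exists_trans_eq_zero D c hc x (trans D c φ x ((D.obj i₀).presheaf.germ U₁ (s x) hxU₁ a))
        ((stalkMap_trans D c φ x _).trans (hl a (Finset.mem_insert_self a l)))
      refine ⟨j', ψ ≫ φ, fun g hg => ?_⟩
      rw [← trans_comp]
      rcases Finset.mem_insert.1 hg with rfl | hg
      · exact hj'
      · rw [hj g hg, map_zero]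
  obtain ⟨j, φ, hj⟩ := key gs hz
  have hxj : c.π.app j x ∈ D.map φ ⁻¹ᵁ U := by
    show D.map φ (c.π.app j x) ∈ U
    rw [π_map_apply]; exact hxU
  have hU₁le : D.map φ ⁻¹ᵁ U ≤ D.map φ ⁻¹ᵁ U₁ := fun y hy => (D.obj i₀).basicOpen_le g₁ hy
  have hz' : ∀ l : Finset Γ(D.obj i₀, U₁), (∀ g ∈ l, g ∈ gs) → ∃ (W : (D.obj j).Opens) (hW : W ≤ D.map φ ⁻¹ᵁ U₁),
      c.π.app j x ∈ W ∧ W ≤ D.map φ ⁻¹ᵁ U ∧ ∀ g ∈ l, (D.map φ).appLE U₁ W hW g = 0 := by
    intro l
    induction l using Finset.induction with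
    | empty => exact fun _ => ⟨_, hU₁le, hxj, le_rfl, fun g hg => absurd hg (Finset.notMem_empty g)⟩
    | insert a l _ ih =>
      intro hl
      obtain ⟨W, hW, hxW, hWle, hWl⟩ := ih fun g hg => hl g (Finset.mem_insert_of_mem hg)
      have h0 := hj a (hl a (Finset.mem_insert_self a l))
      rw [trans_germ D c φ x hxU₁ a hW hxW, ← map_zero ((D.obj j).presheaf.germ W (c.π.app j x) hxW).hom] at h0
      obtain ⟨W', hxW', i1, i2, hres⟩ := (D.obj j).presheaf.germ_eq _ hxW hxW _ _ h0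
      refine ⟨W', i1.le.trans hW, hxW', i1.le.trans hWle, fun g hg => ?_⟩
      rw [← Scheme.Hom.appLE_map (D.map φ) hW i1.op]
      rcases Finset.mem_insert.1 hg with rfl | hg
      · exact hres.trans (map_zero _)
      · show ((D.obj j).presheaf.map i1.op).hom (((D.map φ).appLE U₁ W hW).hom g) = 0
        rw [show ((D.map φ).appLE U₁ W hW).hom g = 0 from hWl g hg, map_zero]
  obtain ⟨W, hW, hxW, hWle, hWz⟩ := hz' gs fun g hg => hg
  obtain ⟨V, hV, hVf⟩ := exists_free_of_ideals F hft hU r (D.map φ) W hWle (fun k hk g hg => by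
    rw [FittLib.ideal_basicOpen F hft hU₁ g₁ k, ← hG ⟨k, hk⟩] at hg
    refine (Ideal.map_le_iff_le_comap.2 ?_ hg : g ∈ RingHom.ker ((D.map φ).appLE U W hWle).hom)
    refine Ideal.span_le.2 fun a ha => ?_
    show (D.map φ).appLE U W hWle ((D.obj i₀).presheaf.map _ a) = 0
    rw [← hWz a (Finset.mem_biUnion.2 ⟨⟨k, hk⟩, Finset.mem_univ _, ha⟩),
      ← Scheme.Hom.map_appLE (D.map φ) hWle (homOfLE ((D.obj i₀).basicOpen_le g₁)).op]
    rfl) htop (c.π.app j x) hxW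
  exact ⟨j, φ, V, hV, hVf⟩

include hc in
/-- `F` is locally free on the limit iff it is at a stage. -/
theorem good_iff (i₀ : I) [CompactSpace (D.obj i₀)] (P : ℕ → Prop) (F : (D.obj i₀).Modules) [Coh.IsQCoh F]
    (hF : CohB1.IsFP F) :
    Good P F (c.π.app i₀) ↔ ∃ (j : I) (φ : j ⟶ i₀), Good P F (D.map φ) := by
  refine ⟨fun h => ?_, fun ⟨j, φ, h⟩ => h.comp P F (c.π.app j) (c.w φ)⟩
  let A := ofStage D c hc i₀
  let O : ∀ a : Over i₀, (A.D.obj a).Opens := fun a =>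
    ⨆ V : {V : (A.D.obj a).Opens // ∃ r, P r ∧ FreeAlong r F (V.ι ≫ A.t a)}, V.1
  obtain ⟨k, hk⟩ := FlatFunLimLib.exists_stage_of_opens A O fun x => by
    obtain ⟨U, r, hr, hxU, hf⟩ := h x
    obtain ⟨j, φ, V, hV, hVf⟩ := exists_stage_free D c hc i₀ F hF r x U hxU hf
    exact ⟨Over.mk φ, TopologicalSpace.Opens.mem_iSup.2 ⟨⟨V, r, hr, hVf⟩, hV⟩⟩
  refine ⟨k.left, k.hom, fun y => ?_⟩
  obtain ⟨a, ψ, ha⟩ := hk y
  obtain ⟨⟨V, r, hr, hVf⟩, hyV⟩ := TopologicalSpace.Opens.mem_iSup.1 ha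
  refine ⟨A.D.map ψ ⁻¹ᵁ V, r, hr, hyV, ?_⟩
  show FreeAlong r F ((A.D.map ψ ⁻¹ᵁ V).ι ≫ A.t k)
  rw [← A.w ψ, ← morphismRestrict_ι_assoc]
  exact freeAlong_comp hVf _

end LimLocFreeLib

end
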